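import Cfsg.Agent.Lib.PPI.Bas

/-!
# Elements of odd prime power order fixed by no "2-nilpotent" involutory automorphism

`KP L`: some `y` of odd prime power order has this property: if `α` is an automorphism with
`α * α = 1` fixing `y`, the `α`-fixed elements of odd order are not closed under products.
-/

set_option autoImplicit false

namespace Cfsg.Lib.DTk

open Subgroup Cfsg.Lib Cfsg.Lib.BG
open scoped Pointwise

variable {L L' : Type*} [Group L] [Group L']

/-- The `α`-fixed elements of odd order are closed under products. -/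
def Cl (α : MulAut L) : Prop :=
  ∀ x z : L, α x = x → α z = z → Odd (orderOf x) → Odd (orderOf z) → Odd (orderOf (x * z))

/-- See the module docstring. -/
def KP (L : Type*) [Group L] : Prop := ∃ y : L, (∃ r k : ℕ, r.Prime ∧ r ≠ 2 ∧ orderOf y = r ^ k) ∧
  ∀ α : MulAut L, α * α = 1 → α y = y → ¬ Cl α

/-- Transport: take `e.symm y`; an automorphism `α` of `L` gives `MulAut.congr e α` of `L'`. -/
theorem KP.congr (h : KP L') (e : L ≃* L') : KP L := by
  obtain ⟨y, hy, h⟩ := h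
  refine ⟨e.symm y, by rwa [e.symm.orderOf_eq], fun α h2 h1 hc => h (MulAut.congr e α) ?_ ?_ ?_⟩
  · rw [← map_mul, h2, map_one]
  · change e (α (e.symm y)) = y
    rw [h1, e.apply_symm_apply]
  · intro x z hx hz ox oz
    have f : ∀ w : L', MulAut.congr e α w = w → α (e.symm w) = e.symm w := fun w hw =>
      e.injective (by rw [e.apply_symm_apply]; exact hw)
    have := hc _ _ (f x hx) (f z hz) (by rwa [e.symm.orderOf_eq]) (by rwa [e.symm.orderOf_eq])
    rwa [← map_mul, e.symm.orderOf_eq] at this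

section Syl

variable {r : ℕ}

theorem kp_smul (α : MulAut L) (g : L) (A : Sylow r L) : α • g • A = α g • α • A := by
  rw [Sylow.smul_def, Sylow.smul_def, smul_smul, smul_smul]
  congr 1
  ext x
  simp

theorem kp_mem {α : MulAut L} {R : Sylow r L} {u : L} (hu : u ∈ R) : α u ∈ α • R := by
  change α • u ∈ α • (R : Subgroup L)
  exact Subgroup.smul_mem_pointwise_smul_iff.2 hu

theorem kp_self {R : Sylow r L} {u : L} (hu : u ∈ R) : u • R = R :=
  Sylow.smul_eq_iff_mem_normalizer.2 (le_normalizer (H := (R : Subgroup L)) hu)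

theorem kp_free (ti : ∀ P Q : Sylow r L, P ≠ Q → (P : Subgroup L) ⊓ Q = ⊥) {R A : Sylow r L} (hA : A ≠ R)
    {u : L} (hu : u ∈ R) (h : u • A = A) : u = 1 := by
  have h1 : u ∈ (R : Subgroup L) ⊓ normalizer (A : Set L) := ⟨hu, Sylow.smul_eq_iff_mem_normalizer.1 h⟩
  rw [R.2.inf_normalizer_sylow A, ti R A hA.symm] at h1
  exact mem_bot.1 h1

theorem kp_ne {R A : Sylow r L} (hA : A ≠ R) {u : L} (hu : u ∈ R) : u • A ≠ R := fun h =>
  hA (by rw [← inv_smul_smul u A, h]; exact kp_self ((R : Subgroup L).inv_mem hu))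

theorem kp_uniq (ti : ∀ P Q : Sylow r L, P ≠ Q → (P : Subgroup L) ⊓ Q = ⊥) {R A : Sylow r L} (hA : A ≠ R)
    {u v : L} (hu : u ∈ R) (hv : v ∈ R) (h : u • A = v • A) : u = v := by
  have : v⁻¹ * u = 1 := kp_free ti hA
    ((R : Subgroup L).mul_mem ((R : Subgroup L).inv_mem hv) hu) (by rw [mul_smul, h, inv_smul_smul])
  exact (inv_mul_eq_one.1 this).symm

theorem kp_reg [Finite L] (ti : ∀ P Q : Sylow r L, P ≠ Q → (P : Subgroup L) ⊓ Q = ⊥)
    (hn : ∀ P : Sylow r L, Nat.card (Sylow r L) = Nat.card P + 1) {α : MulAut L} {R A B : Sylow r L}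
    (hA : A ≠ R) (hB : B ≠ R) (fR : α • R = R) (fA : α • A = A) (fB : α • B = B) :
    ∃ u ∈ R, u • A = B ∧ α u = u := by
  classical
  let f : ↥(R : Subgroup L) → {X : Sylow r L // X ≠ R} := fun u => ⟨(u : L) • A, kp_ne hA u.2⟩
  have inj : Function.Injective f := fun u v h =>
    Subtype.ext (kp_uniq ti hA u.2 v.2 (congrArg Subtype.val h))
  have hc : Nat.card {X : Sylow r L // X ≠ R} ≤ Nat.card (R : Subgroup L) := by
    have := Fintype.ofFinite (Sylow r L)
    have h1 := hn R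
    rw [Nat.card_eq_fintype_card] at h1
    rw [Nat.card_eq_fintype_card (α := {X : Sylow r L // X ≠ R}), Fintype.card_subtype_compl,
      Fintype.card_subtype_eq, h1]
    exact le_of_eq (Nat.add_sub_cancel _ _)
  obtain ⟨u, hu⟩ := (inj.bijective_of_nat_card_le hc).2 ⟨B, hB⟩
  have h1 : (u : L) • A = B := congrArg Subtype.val hu
  have h2 : α u ∈ α • R := kp_mem u.2
  rw [fR] at h2
  refine ⟨u, u.2, h1, kp_uniq ti hA h2 u.2 ?_⟩
  rw [h1, ← fB, ← h1, kp_smul, fA]

theorem kp_odd [hr : Fact r.Prime] (h2 : r ≠ 2) {R : Subgroup L} (hR : IsPGroup r R) {u : L} (hu : u ∈ R) :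
    Odd (orderOf u) := by
  obtain ⟨k, hk⟩ := hR ⟨u, hu⟩
  have : orderOf u ∣ r ^ k := orderOf_dvd_of_pow_eq_one (congrArg Subtype.val hk)
  exact Odd.of_dvd_nat (hr.out.odd_of_ne_two h2).pow this

theorem kp_sq {X : Type*} [MulAction (MulAut L) X] {α : MulAut L} (h : α * α = 1) :
    (MulAction.toPerm α : Equiv.Perm X) ^ 2 ^ 1 = 1 := by
  ext x
  simp [pow_two, smul_smul, h]

theorem kp_two [Finite L] {α : MulAut L} (h : α * α = 1) : ∃ U : Sylow 2 L, ∀ x ∈ U, α x ∈ U := by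
  have := Fintype.ofFinite (Sylow 2 L)
  obtain ⟨U, hU⟩ := Equiv.Perm.exists_fixed_point_of_prime (p := 2) (n := 1)
    (by rw [← Nat.card_eq_fintype_card]; exact not_dvd_card_sylow 2 L) (kp_sq (X := Sylow 2 L) h)
  have hU' : α • U = U := hU
  exact ⟨U, fun x hx => hU' ▸ kp_mem hx⟩

theorem kp_even {R : Subgroup L} (hR : IsPGroup 2 R) {u : L} (hu : u ∈ R) (ho : Odd (orderOf u)) : u = 1 := by
  obtain ⟨k, hk⟩ := hR ⟨u, hu⟩
  have : orderOf u ∣ 2 ^ k := orderOf_dvd_of_pow_eq_one (congrArg Subtype.val hk)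
  exact orderOf_eq_one_iff.1 (Nat.Coprime.eq_one_of_dvd (ho.coprime_two_right.pow_right k) this)

end Syl

/-- The `α`-fixed elements of odd order. -/
def Cl.W {α : MulAut L} (h : Cl α) : Subgroup L where
  carrier := {x | α x = x ∧ Odd (orderOf x)}
  one_mem' := ⟨map_one _, by simp⟩
  mul_mem' := fun {a b} ha hb => ⟨by rw [map_mul, ha.1, hb.1], h a b ha.1 hb.1 ha.2 hb.2⟩
  inv_mem' := fun {a} ha => ⟨by rw [map_inv, ha.1], by rw [orderOf_inv]; exact ha.2⟩

theorem Cl.conj {α : MulAut L} (h : Cl α) {s w : L} (hs : α s = s) (hw : w ∈ h.W) : s * w * s⁻¹ ∈ h.W :=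
  ⟨by rw [map_mul, map_mul, map_inv, hs, hw.1], by
    rw [← MulAut.conj_apply, MulEquiv.orderOf_eq]; exact hw.2⟩

theorem Cl.inv [Finite L] {α : MulAut L} (h : Cl α) {s w : L} (hs : α s = s) (s2 : s * s = 1)
    (hc : IsPGroup 2 𝐂[s]) (hw : w ∈ h.W) : s * w * s⁻¹ = w⁻¹ := by
  have si : s⁻¹ = s := inv_eq_of_mul_eq_one_right s2
  obtain ⟨c, hc'⟩ : ∃ c, c = w⁻¹ * (s * w * s⁻¹) := ⟨_, rfl⟩
  have cW : c ∈ h.W := hc' ▸ mul_mem (inv_mem hw) (h.conj hs hw)
  have ci : s * c * s⁻¹ = c⁻¹ := by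
    rw [hc', si]
    calc s * (w⁻¹ * (s * w * s)) * s = s * w⁻¹ * s * w * (s * s) := by group
      _ = s⁻¹ * w⁻¹ * s⁻¹ * w := by rw [s2, si, mul_one]
      _ = _ := by group
  obtain ⟨j, hj⟩ := cW.2
  have dd : c ^ (j + 1) * c ^ (j + 1) = c := by
    rw [← pow_add, show j + 1 + (j + 1) = 2 * j + 1 + 1 by ring, pow_succ, ← hj, pow_orderOf_eq_one, one_mul]
  have di : s * c ^ (j + 1) * s⁻¹ = (c ^ (j + 1))⁻¹ := by rw [← conj_pow, ci, inv_pow]
  have dW : c ^ (j + 1) ∈ h.W := pow_mem cW _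
  generalize c ^ (j + 1) = d at dd di dW
  have h1 : s * (w * d) * s⁻¹ = w * d := by
    calc s * (w * d) * s⁻¹ = w * (w⁻¹ * (s * w * s⁻¹)) * (s * d * s⁻¹) := by group
      _ = w * d := by rw [← hc', di, ← dd]; group
  have h2 : w * d = 1 := kp_even hc (mem_cent1.2 (mul_inv_eq_iff_eq_mul.1 h1).symm) (mul_mem hw dW).2
  rw [eq_inv_of_mul_eq_one_left h2, inv_inv, ← conj_inv, di, inv_inv]

/-- TI case. Take `P`, `1 ≠ y ∈ P` of order `r` (`|P| ≠ 1` by `h0`). Let `α * α = 1`, `α y = y`.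
`α` permutes the Sylow `r`-subgroups (`Sylow.pointwiseMulAction`, or `Sylow.comapOfInjective`);
it fixes `P` (TI: `y ∈ αP ⊓ P`). Their number `|P| + 1` is even, so `α` fixes a second one `Q`
(`Equiv.Perm.exists_fixed_point_of_prime'`). Regularity: a Sylow `R` acts freely on the other
Sylows (`u ∈ R` normalising `A ≠ R` lies in `A`: `IsPGroup.inf_normalizer_sylow`, so `u = 1` by TI),
there are `|R|` of them, so for `A, B ≠ R` there is a UNIQUE `u ∈ R` with `u • A = B`. If `α` fixes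
`R, A, B` then `α u ∈ R` also maps `A` to `B`, so `α u = u`; `u` has odd order. Put `T = y • Q`
(fixed by `α`, `≠ P, Q`). Take `u ∈ T` with `u • P = Q`, `Q' = u • Q ≠ Q` (fixed), `v ∈ Q` with
`v • Q' = P`. Then `g = v * u` swaps `P` and `Q` and has odd order by `Cl`; but `g ^ 2` fixes
`P`, so `g ^ (2 j + 1) = 1` gives `P = g • P = Q`. -/
theorem kp_ti [Finite L] {r : ℕ} [hr : Fact r.Prime] (h2 : r ≠ 2) (h0 : r ∣ Nat.card L)
    (ti : ∀ P Q : Sylow r L, P ≠ Q → (P : Subgroup L) ⊓ Q = ⊥)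
    (hn : ∀ P : Sylow r L, Nat.card (Sylow r L) = Nat.card P + 1) : KP L := by
  obtain ⟨P⟩ : Nonempty (Sylow r L) := inferInstance
  obtain ⟨y, hy⟩ := exists_prime_orderOf_dvd_card' (G := (P : Subgroup L)) r (P.dvd_card_of_dvd_card h0)
  have hy' : orderOf (y : L) = r := by rw [Subgroup.orderOf_coe, hy]
  have y1 : (y : L) ≠ 1 := fun h => hr.out.one_lt.ne (by rw [← hy', h, orderOf_one])
  refine ⟨y, ⟨r, 1, hr.out, h2, by rw [hy', pow_one]⟩, fun α hα fy hc => ?_⟩
  have fP : α • P = P := by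
    by_contra h
    have h1 : (y : L) ∈ ((α • P : Sylow r L) : Subgroup L) ⊓ P := ⟨fy ▸ kp_mem y.2, y.2⟩
    rw [ti _ _ h] at h1
    exact y1 (mem_bot.1 h1)
  have := Fintype.ofFinite (Sylow r L)
  obtain ⟨Q, fQ, QP⟩ := Equiv.Perm.exists_fixed_point_of_prime' (p := 2) (n := 1) (by
    rw [← Nat.card_eq_fintype_card, hn P]
    obtain ⟨k, hk⟩ := IsPGroup.iff_card.1 P.2
    rw [hk]
    exact even_iff_two_dvd.1 (hr.out.odd_of_ne_two h2).pow.add_one) (kp_sq (X := Sylow r L) hα) (a := P) fP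
  replace fQ : α • Q = Q := fQ
  have fT : α • (y : L) • Q = (y : L) • Q := by rw [kp_smul, fy, fQ]
  have TP : (y : L) • Q ≠ P := kp_ne QP y.2
  have TQ : (y : L) • Q ≠ Q := fun h => y1 (kp_free ti QP y.2 h)
  obtain ⟨u, uT, uP, fu⟩ := kp_reg ti hn TP.symm TQ.symm fT fP fQ
  have fQ' : α • u • Q = u • Q := by rw [kp_smul, fu, fQ]
  have QQ : u • Q ≠ Q := fun h => QP (by rw [← uP, kp_free ti TQ.symm uT h, one_smul])
  obtain ⟨v, vQ, vP, fv⟩ := kp_reg ti hn QQ QP.symm fQ fQ' fP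
  obtain ⟨j, hj⟩ := hc v u fv fu (kp_odd h2 Q.2 vQ) (kp_odd h2 (Sylow.isPGroup' _) uT)
  have g1 : (v * u) • P = Q := by rw [mul_smul, uP, kp_self vQ]
  have g2 : (v * u) • Q = P := by rw [mul_smul, vP]
  have g3 : (v * u) ^ 2 ∈ MulAction.stabilizer L P := by
    rw [MulAction.mem_stabilizer_iff, pow_two, mul_smul, g1, g2]
  have g4 : ((v * u) ^ 2) ^ j • P = P := pow_mem g3 j
  apply QP
  calc Q = (v * u) • ((v * u) ^ 2) ^ j • P := by rw [g4, g1]
    _ = P := by rw [smul_smul, ← pow_mul, ← pow_succ', ← hj, pow_orderOf_eq_one, one_smul]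

/-- CIT case. Take `y` of order `r`. `α` fixes a Sylow 2-subgroup `U` (their number is odd:
`Equiv.Perm.exists_fixed_point_of_prime`, `not_dvd_card_sylow`), hence `Z`. `Z` is elementary
abelian, `z ↦ z * α z` is an endomorphism of `Z` with kernel `C = {z ∈ Z | α z = z}` and image in
`C`, so `4 < |Z| ≤ |C| ^ 2`: there are `s ≠ t` in `C \ {1}`, and `s, t, s * t` are `α`-fixed
involutions. `W = {x | α x = x, Odd (orderOf x)}` is a subgroup by `Cl`, normalised by every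
`α`-fixed element; by `hc` an involution centralises no `1 ≠ w ∈ W`, so `s, t, s * t` all invert
`W` (`MonoidHom.FixedPointFree.coe_eq_inv_of_involutive`). Then `y⁻¹ = (s t) y (s t)⁻¹ = y`, so
`y * y = 1`, against `orderOf y = r`. -/
theorem kp_cit [Finite L] {r : ℕ} (hr : r.Prime) (h2 : r ≠ 2) (h0 : r ∣ Nat.card L)
    (hc : ∀ t : L, orderOf t = 2 → IsPGroup 2 𝐂[t])
    (hz : ∀ U : Sylow 2 L, ∃ Z : Subgroup L, (∀ v, v ∈ Z ↔ v ∈ U ∧ v * v = 1) ∧ 4 < Nat.card Z) :
    KP L := by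
  have := Fact.mk hr
  obtain ⟨y, hy⟩ := exists_prime_orderOf_dvd_card' (G := L) r h0
  refine ⟨y, ⟨r, 1, hr, h2, by rw [hy, pow_one]⟩, fun α hα fy cl => ?_⟩
  have aa : ∀ x, α (α x) = x := fun x => by rw [← MulAut.mul_apply, hα, MulAut.one_apply]
  obtain ⟨U, hU⟩ := kp_two hα
  obtain ⟨Z, hZ, h4⟩ := hz U
  have aZ : ∀ z ∈ Z, α z ∈ Z := fun z h =>
    (hZ _).2 ⟨hU z ((hZ z).1 h).1, by rw [← map_mul, ((hZ z).1 h).2, map_one]⟩
  have iZ : ∀ z ∈ Z, z⁻¹ = z := fun z h => inv_eq_of_mul_eq_one_right ((hZ z).1 h).2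
  have cZ : ∀ a ∈ Z, ∀ b ∈ Z, a * b = b * a := fun a ha b hb => by
    rw [← iZ _ (mul_mem ha hb), mul_inv_rev, iZ a ha, iZ b hb]
  let f : Z →* Z := MonoidHom.mk' (fun z => ⟨z * α z, mul_mem z.2 (aZ z z.2)⟩) (fun a b => Subtype.ext (by
    change (a * b : L) * α (a * b) = a * α a * (b * α b)
    rw [map_mul, mul_assoc, mul_assoc, ← mul_assoc (b : L), ← mul_assoc (α a), cZ _ b.2 _ (aZ a a.2)]))
  have hk : ∀ z : Z, z ∈ f.ker ↔ α z = z := fun z => by
    rw [MonoidHom.mem_ker, Subtype.ext_iff]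
    change (z : L) * α z = 1 ↔ _
    rw [mul_eq_one_iff_inv_eq, iZ z z.2, eq_comm]
  have hr' : f.range ≤ f.ker := by
    rintro _ ⟨z, rfl⟩
    rw [hk]
    change α (z * α z) = z * α z
    rw [map_mul, aa, cZ _ z.2 _ (aZ z z.2)]
  have h3 : 2 < Nat.card f.ker := by
    have e1 := f.ker.card_mul_index
    rw [Subgroup.index_ker] at e1
    have e2 := Subgroup.card_le_of_le hr'
    by_contra h
    have : Nat.card f.ker * Nat.card f.range ≤ 2 * 2 := Nat.mul_le_mul (by omega) (by omega)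
    omega
  have := Fintype.ofFinite f.ker
  rw [Nat.card_eq_fintype_card, Fintype.two_lt_card_iff] at h3
  obtain ⟨a, b, c, ab, ac, bc⟩ := h3
  have yW : y ∈ cl.W := ⟨fy, hy ▸ hr.odd_of_ne_two h2⟩
  have key : ∀ a b : f.ker, a ≠ b → ((a : Z) : L) * b * y * (((a : Z) : L) * b)⁻¹ = y⁻¹ := fun a b ab => by
    have m : ((a : Z) : L) * b ∈ Z := mul_mem a.1.2 b.1.2
    have s2 := ((hZ _).1 m).2
    refine cl.inv (by rw [map_mul, (hk _).1 a.2, (hk _).1 b.2]) s2 (hc _ (orderOf_eq_prime (by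
      rw [pow_two, s2]) fun h => ab ?_)) yW
    rw [mul_eq_one_iff_inv_eq, iZ _ a.1.2] at h
    exact Subtype.ext (Subtype.ext h)
  have e1 := key a b ab
  have e2 := key b c bc
  have e3 := key a c ac
  have bb := ((hZ _).1 b.1.2).2
  generalize ((a : Z) : L) = a', ((b : Z) : L) = b', ((c : Z) : L) = c' at e1 e2 e3 bb
  have e4 : y⁻¹ = y := by
    calc y⁻¹ = a' * (b' * b') * c' * y * (a' * (b' * b') * c')⁻¹ := by rw [bb, mul_one, e3]
      _ = a' * b' * (b' * c' * y * (b' * c')⁻¹) * (a' * b')⁻¹ := by group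
      _ = (a' * b' * y * (a' * b')⁻¹)⁻¹ := by rw [e2]; group
      _ = y := by rw [e1, inv_inv]
  have e5 : orderOf y ∣ 2 := orderOf_dvd_of_pow_eq_one (by rw [pow_two]; exact mul_eq_one_iff_inv_eq.2 e4)
  rw [hy] at e5
  exact h2 ((Nat.prime_dvd_prime_iff_eq hr Nat.prime_two).1 e5)

/-- The normaliser `N` of a subgroup `P` of order 7 has order 21. `P = zpowers y` is Sylow;
`𝐂[y]` is a 7-group (an element `c` of prime order `s ≠ 7` in it gives `orderOf (c * y) = 7 s`),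
so it has order 7 (`49 ∤ 7 m`). `N` acts on `P \ {1}` (6 elements) with stabiliser `𝐂[y]`, so
`|N| = 7 e`, `e ≤ 6`; `n₇ * 7 e = 7 m` and `n₇ ≡ 1 (mod 7)` give `e ≡ 3`, so `e = 3`. -/
theorem card_norm_seven [Finite L] {m : ℕ} (hL : Nat.card L = 7 * m) (hm : m % 7 = 3)
    (h7 : ∀ g : L, 7 ∣ orderOf g → orderOf g = 7) {P : Subgroup L} (hP : Nat.card P = 7) :
    Nat.card 𝐍(P) = 21 := by
  have p7 : Fact (Nat.Prime 7) := ⟨by norm_num⟩
  have hi : P.index = m := by
    have := P.card_mul_index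
    rw [hP, hL] at this
    omega
  have hp : IsPGroup 7 P := IsPGroup.of_card (n := 1) (by rw [hP, pow_one])
  let S : Sylow 7 L := hp.toSylow (by rw [hi]; omega)
  have cyc : IsCyclic P := isCyclic_of_prime_card hP
  obtain ⟨y, hy⟩ := exists_prime_orderOf_dvd_card' (G := P) 7 (by rw [hP])
  have hy' : orderOf (y : L) = 7 := by rw [Subgroup.orderOf_coe, hy]
  have hC : IsPGroup 7 𝐂(P) := by
    rintro ⟨c, hc⟩
    refine ⟨1, Subtype.ext ?_⟩
    change c ^ 7 ^ 1 = 1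
    rw [pow_one, ← orderOf_dvd_iff_pow_eq_one]
    by_cases h : 7 ∣ orderOf c
    · rw [h7 c h]
    · have cm : Commute (y : L) c := mem_cent.1 hc y y.2
      have e := cm.orderOf_mul_eq_mul_orderOf_of_coprime (by
        rw [hy']; exact (Nat.Prime.coprime_iff_not_dvd p7.out).2 h)
      rw [hy'] at e
      have := h7 (y * c) (e ▸ dvd_mul_right _ _)
      rw [show orderOf c = 1 by omega]
      exact one_dvd _
  have PC : P ≤ 𝐂(P) := by
    let := cyc.commGroup
    exact le_cent_iff.2 fun a ha b hb => congrArg Subtype.val (mul_comm (⟨a, ha⟩ : P) ⟨b, hb⟩)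
  have eC : 𝐂(P) = P := S.3 hC PC
  have e1 := P.normalizerMonoidHom.ker.card_mul_index
  have e2 : Nat.card P.normalizerMonoidHom.ker = 7 := by
    rw [normalizerMonoidHom_ker, eC, Nat.card_congr (subgroupOfEquivOfLe P.le_normalizer).toEquiv, hP]
  have e3 : P.normalizerMonoidHom.ker.index ≤ 6 := by
    rw [Subgroup.index_ker]
    refine (Subgroup.card_le_card_group _).trans (le_of_eq ?_)
    rw [IsCyclic.card_mulAut, hP]
    decide
  have e4 : (𝐍(P)).index % 7 = 1 := by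
    have a := card_sylow_modEq_one 7 L
    rw [S.card_eq_index_normalizer] at a
    exact a
  have e5 := (𝐍(P)).card_mul_index
  rw [hL, ← e1, e2] at e5
  rw [← e1, e2]
  generalize P.normalizerMonoidHom.ker.index = e at e3 e5
  generalize (𝐍(P)).index = n at e4 e5
  interval_cases e <;> omega

/-- `A₇`, `L₃(4)`. Take `y` of order 7. `H = {x | α x = x}` contains an involution `u` (`α` fixes
a Sylow 2-subgroup `U ≠ 1` and `1 ∈ U`, so a further element: `exists_fixed_point_of_prime'`; or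
apply that lemma to `{x | x * x = 1}`). `W = {x : H | Odd (orderOf x)}` is a normal subgroup of `H`
by `Cl`; let `S` be a Sylow 7-subgroup of `W` (order 7 as `y ∈ W`, `49 ∤ |L|`). Frattini
(`Sylow.normalizer_sup_eq_top`): `N_H(S) ⊔ W = ⊤`. By `card_norm_seven` all elements of `N_H(S)`
have odd order, so `N_H(S) ≤ W`, `W = ⊤`, and `u` has odd order. -/
theorem kp_seven [Finite L] {m : ℕ} (hL : Nat.card L = 7 * m) (hm : m % 7 = 3) (he : Even m)
    (h7 : ∀ g : L, 7 ∣ orderOf g → orderOf g = 7) : KP L := by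
  have p7 : Fact (Nat.Prime 7) := ⟨by norm_num⟩
  obtain ⟨y, hy⟩ := exists_prime_orderOf_dvd_card' (G := L) 7 (hL ▸ dvd_mul_right _ _)
  refine ⟨y, ⟨7, 1, p7.out, by norm_num, by rw [hy, pow_one]⟩, fun α hα fy cl => ?_⟩
  have aa : ∀ x, α (α x) = x := fun x => by rw [← MulAut.mul_apply, hα, MulAut.one_apply]
  obtain ⟨U, hU⟩ := kp_two hα
  have := Fintype.ofFinite (U : Subgroup L)
  let σ : Equiv.Perm (U : Subgroup L) :=
    ⟨fun x => ⟨α x, hU x x.2⟩, fun x => ⟨α x, hU x x.2⟩, fun x => Subtype.ext (aa x), fun x => Subtype.ext (aa x)⟩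
  obtain ⟨u, fu, u1⟩ := Equiv.Perm.exists_fixed_point_of_prime' (p := 2) (n := 1) (σ := σ) (by
    rw [← Nat.card_eq_fintype_card]
    exact U.dvd_card_of_dvd_card (hL ▸ (even_iff_two_dvd.1 he).mul_left _)) (by
      ext x
      exact aa x) (a := 1) (Subtype.ext (map_one α))
  replace fu : α u = u := congrArg Subtype.val fu
  let H : Subgroup L := α.toMonoidHom.eqLocus (MonoidHom.id L)
  have hH : ∀ x, x ∈ H ↔ α x = x := fun x => Iff.rfl
  have hn : (cl.W.subgroupOf H).Normal := ⟨fun w hw s => cl.conj s.2 hw⟩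
  obtain ⟨P⟩ : Nonempty (Sylow 7 H) := inferInstance
  have PW : (P : Subgroup H) ≤ cl.W.subgroupOf H := fun x hx =>
    ⟨x.2, (Subgroup.orderOf_coe x).symm ▸ kp_odd (by norm_num) P.2 hx⟩
  have cP : Nat.card ((P : Subgroup H).map H.subtype) = 7 := by
    have d1 := Subgroup.card_subgroup_dvd_card ((P : Subgroup H).map H.subtype)
    rw [Subgroup.card_subtype] at d1 ⊢
    have d2 : 7 ∣ Nat.card (P : Subgroup H) :=
      P.dvd_card_of_dvd_card (hy ▸ H.orderOf_dvd_natCard ((hH y).2 fy))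
    obtain ⟨k, hk⟩ := IsPGroup.iff_card.1 P.2
    rw [hk] at d1 d2 ⊢
    rw [hL] at d1
    rcases k with _ | _ | k
    · norm_num at d2
    · norm_num
    · have := (Nat.pow_dvd_pow 7 (show 2 ≤ k + 1 + 1 by omega)).trans d1
      omega
  have NW : normalizer (P : Set H) ≤ cl.W.subgroupOf H := fun x hx => by
    refine ⟨x.2, ?_⟩
    have m : (x : L) ∈ 𝐍((P : Subgroup H).map H.subtype) :=
      le_normalizer_map (H := (P : Subgroup H)) H.subtype ⟨x, hx, rfl⟩
    have d := Subgroup.orderOf_dvd_natCard _ m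
    rw [card_norm_seven hL hm h7 cP] at d
    exact Odd.of_dvd_nat (by decide) d
  have top := P.normalizer_sup_eq_top' PW
  rw [sup_eq_right.2 NW] at top
  have uW : (⟨u, (hH u).2 fu⟩ : H) ∈ cl.W.subgroupOf H := top ▸ mem_top _
  exact u1 (Subtype.ext (kp_even U.2 u.2 uW.2))

end Cfsg.Lib.DTk
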